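import Mathlib
import Cfsg.Agent.Lib.FusionAlperin.Complement

/-!
Homomorphisms between finite groups with compatible fusion on a Sylow subgroup, when a normal
`p`-subgroup contains its centraliser.
-/

set_option autoImplicit false
set_option linter.unusedSectionVars false

namespace Cfsg.Agent.Lib.FusionP3.Free

open Cfsg.Agent.Lib

variable {T L L' : Type*} [Group T] [Group L] [Group L'] [Finite L] [Finite L'] {p : ℕ} [Fact p.Prime]

theorem exists_hom (j : T →* L) (hj : Function.Injective j) (k : T →* L') (hT : IsPGroup p T)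
    (hidx : ¬ p ∣ j.range.index) (R : Subgroup T) (hRn : (R.map j).Normal)
    (hc : ∀ g : L', (∀ r ∈ R, g * k r = k r * g) → ∃ r ∈ R, k r = g)
    (hcompat : ∀ a : L, ∃ b : L', ∀ x y : T, a * j x * a⁻¹ = j y → b * k x * b⁻¹ = k y) :
    ∃ f : L →* L', ∀ x, f (j x) = k x := by
  classical
  let M : Subgroup (L × L') :=
    { carrier := {m | ∀ q ∈ R, ∀ q' ∈ R,
        m.1 * j q * m.1⁻¹ = j q' → m.2 * k q * m.2⁻¹ = k q'}
      one_mem' := by
        intro q _ q' _ h
        simp only [Prod.fst_one, Prod.snd_one, one_mul, inv_one, mul_one] at h ⊢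
        rw [hj h]
      mul_mem' := by
        intro a b ha hb q hq q' hq' h
        obtain ⟨r, hr, hre⟩ := hRn.conj_mem _ ⟨q, hq, rfl⟩ b.1
        have h2 := hb q hq r hr hre.symm
        have h1 := ha r hr q' hq' (by rw [← h, hre, Prod.fst_mul]; group)
        rw [← h1, ← h2, Prod.snd_mul]
        group
      inv_mem' := by
        intro a ha q hq q' hq' h
        have h1 := ha q' hq' q hq (by rw [← h, Prod.fst_inv]; group)
        rw [← h1, Prod.snd_inv]
        group }
  let π : M →* L := (MonoidHom.fst L L').comp M.subtype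
  set P := j.range with hP
  let eι := MonoidHom.ofInjective hj
  have hmem : ∀ x : T, ((j x, k x) : L × L') ∈ M := by
    intro x q _ q' _ h
    have h' : j (x * q * x⁻¹) = j q' := by rw [map_mul, map_mul, map_inv]; exact h
    rw [← hj h', map_mul, map_mul, map_inv]
  let sS : T →* M := (j.prod k).codRestrict M hmem
  let s : P →* M := sS.comp eι.symm.toMonoidHom
  have hs : ∀ x : P, π (s x) = x := fun x => congrArg Subtype.val (eι.apply_symm_apply x)
  have hs2 : ∀ (x : P) (r : T), j r = x → s x = sS r := fun x r h => by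
    show sS (eι.symm x) = sS r
    rw [MulEquiv.symm_apply_eq eι |>.2 (Subtype.ext h.symm : x = eι r)]
  have hst : FusionAlperin.Complement.IsStable π P s := by
    intro a
    obtain ⟨b, hb⟩ := hcompat a
    refine ⟨⟨(a, b), fun q _ q' _ h => hb q q' h⟩, rfl, fun x hx => ?_⟩
    obtain ⟨r, hr⟩ := x.2
    obtain ⟨r', hr'⟩ := hx
    rw [hs2 x r hr, hs2 _ r' hr']
    refine Subtype.ext (Prod.ext ?_ ?_)
    · show a * j r * a⁻¹ = j r'
      rw [hr, hr']
    · exact hb r r' (by rw [hr, hr'])
  have hker : ∀ u : M, π u = 1 → ∃ z ∈ R, (∀ q ∈ R, k z * k q = k q * k z) ∧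
      (u : L × L') = (1, k z) := by
    intro u hu
    have h1 : ∀ q ∈ R, (u : L × L').2 * k q = k q * (u : L × L').2 := by
      intro q hq
      have := u.2 q hq q hq (by rw [show (u : L × L').1 = 1 from hu]; group)
      exact mul_inv_eq_iff_eq_mul.1 this
    obtain ⟨z, hz, hze⟩ := hc _ h1
    exact ⟨z, hz, fun q hq => by rw [hze]; exact h1 q hq, Prod.ext hu hze.symm⟩
  have hVp : IsPGroup p π.ker := by
    intro u
    obtain ⟨z, -, -, he⟩ := hker u u.2
    obtain ⟨e, hk⟩ := hT z
    refine ⟨e, Subtype.ext (Subtype.ext ?_)⟩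
    show (u : L × L') ^ (p ^ e) = 1
    rw [he, Prod.pow_mk, one_pow, ← map_pow, hk, map_one]
    rfl
  have hco : (Nat.card π.ker).Coprime P.index := by
    obtain ⟨e, he⟩ := IsPGroup.iff_card.1 hVp
    rw [he]
    exact Nat.Coprime.pow_left e ((Fact.out : p.Prime).coprime_iff_not_dvd.2 hidx)
  obtain ⟨σ, hσπ, hσs⟩ := FusionAlperin.Complement.exists_section_extending (π := π) (P := P) (s := s)
    (fun u v hu hv => by
      obtain ⟨z, hz, hzc, hze⟩ := hker u hu
      obtain ⟨w, hw, -, hwe⟩ := hker v hv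
      apply Subtype.ext
      rw [Subgroup.coe_mul, Subgroup.coe_mul, hze, hwe, Prod.mk_mul_mk, Prod.mk_mul_mk, hzc w hw])
    (fun u hu => ⟨((powCoprime hco).symm ⟨u, hu⟩ : π.ker), ((powCoprime hco).symm ⟨u, hu⟩).2,
      congrArg Subtype.val ((powCoprime hco).apply_symm_apply ⟨u, hu⟩)⟩)
    (fun u v hu hv h => congrArg Subtype.val
      ((powCoprime hco).injective (Subtype.ext h : powCoprime hco ⟨u, hu⟩ = powCoprime hco ⟨v, hv⟩)))
    hs hst
  refine ⟨(MonoidHom.snd L L').comp (M.subtype.comp σ), fun x => ?_⟩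
  have e := hσs ⟨j x, x, rfl⟩
  rw [hs2 _ x rfl] at e
  exact congrArg (fun m : M => (m : L × L').2) e

/-- If moreover `k` is injective and `R` is self-centralising in `L`, every such map is injective. -/
theorem injective_of_hom (j : T →* L) (k : T →* L') (hk : Function.Injective k) (R : Subgroup T)
    (hRn : (R.map j).Normal)
    (hcL : ∀ g : L, (∀ r ∈ R, g * j r = j r * g) → ∃ r ∈ R, j r = g)
    (f : L →* L') (hf : ∀ x, f (j x) = k x) : Function.Injective f := by
  rw [injective_iff_map_eq_one]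
  intro g hg
  obtain ⟨r, -, hr⟩ := hcL g fun q hq => by
    obtain ⟨q', -, he⟩ := hRn.conj_mem _ ⟨q, hq, rfl⟩ g
    have h1 := congrArg f he
    rw [map_mul, map_mul, map_inv, hf, hf, hg] at h1
    simp only [one_mul, inv_one, mul_one] at h1
    rw [hk h1] at he
    exact mul_inv_eq_iff_eq_mul.1 he.symm
  rw [← hr, hf] at hg
  rw [← hr, hk (hg.trans k.map_one.symm), map_one]

/-- If the fusion on the Sylow subgroup is all of that of `L'`, the map is surjective. -/
theorem surjective_of_hom (j : T →* L) (k : T →* L') (R : Subgroup T)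
    (hc : ∀ g : L', (∀ r ∈ R, g * k r = k r * g) → ∃ r ∈ R, k r = g)
    (hfull : ∀ b : L', ∃ a : L, ∀ x ∈ R, ∃ y ∈ R, a * j x * a⁻¹ = j y ∧ b * k x * b⁻¹ = k y)
    (f : L →* L') (hf : ∀ x, f (j x) = k x) : Function.Surjective f := by
  intro b
  obtain ⟨a, ha⟩ := hfull b
  obtain ⟨r, -, hr⟩ := hc ((f a)⁻¹ * b) fun q hq => by
    obtain ⟨q', -, h1, h2⟩ := ha q hq
    have h3 := congrArg f h1
    rw [map_mul, map_mul, map_inv, hf, hf, ← h2] at h3
    calc (f a)⁻¹ * b * k q = (f a)⁻¹ * (b * k q * b⁻¹) * b := by group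
      _ = (f a)⁻¹ * (f a * k q * (f a)⁻¹) * b := by rw [h3]
      _ = _ := by group
  exact ⟨a * j r, by rw [map_mul, hf, hr]; group⟩

end Cfsg.Agent.Lib.FusionP3.Free
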