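import Mathlib
import Cfsg.Agent.Lib.FusionP3.Free.Embed
import Cfsg.Agent.Lib.FusionSystem.ModelUnique
import Cfsg.Agent.Lib.FusionSystem.Normalizer
import Cfsg.Agent.Lib.FusionAlperin.Model
import Cfsg.Agent.Lib.Transfer.InvolvesS4
import Cfsg.Agent.Lib.Transfer.FusionLocal
import Cfsg.Prelude.Def_FusionReduction

/-!
Section-freeness of fusion systems: the centric radical subgroups suffice, and it passes to normalizer
systems.
-/

set_option autoImplicit false
set_option linter.style.haveILetI false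
set_option linter.unusedSectionVars false

namespace Cfsg.Agent.Lib.FusionP3.Free

open Cfsg Cfsg.FusionSystem Cfsg.Agent.Lib.FS
open Cfsg.Agent.Lib.Transfer

universe u

variable {Ω : Type u} [Group Ω] {S : Subgroup Ω} [Finite S] {p : ℕ} [Fact p.Prime] {F : FusionSystem S}

/-- the models at the fully normalized centric subgroup `R` do not involve `H` -/
def FreeAt (F : FusionSystem S) (p : ℕ) (H : Type*) [Group H] (R : Subgroup Ω) : Prop :=
  ∀ N : FusionSystem (normalizerIn S R), F.IsNormalizerSystem R N →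
    ∀ (L : Type u) [Group L] (ι : ↥(normalizerIn S R) →* L), N.IsModel p L ι → ¬ Involves H L

/-- A model of a subsystem whose core is centric embeds in the model at a conjugate of the core. -/
theorem free_of_model (hS : IsPGroup p S) (hF : F.IsSaturated p) {H : Type*} [Group H]
    {T : Subgroup Ω} (hTS : T ≤ S) {M : FusionSystem T} (hM : M.IsSubsystemOf F)
    {L : Type u} [Group L] {j : T →* L} (hL : M.IsModel p L j) (hc : F.IsCentric M.core)
    (hfree : ∀ R : Subgroup Ω, F.IsFullyNormalized R → F.IsConj M.core R → FreeAt F p H R) :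
    ¬ Involves H L := by
  classical
  haveI := finite_sub hTS
  haveI := hL.1
  set R := M.core with hR
  have hRn : M.IsNormal R := FusionAlperin.Join.isNormal_core M
  have hRT : R ≤ T := hRn.1
  have hTR : T ≤ normalizerIn S R := le_inf hTS (isNormal_le_normalizer hRn)
  obtain ⟨R', hRR', hR'⟩ := exists_isFullyNormalized F hc.1
  have hc' : F.IsCentric R' := FusionLocal.isCentric_of_isConj hRR' hc
  obtain ⟨ψ, hψ, hψv, hψR⟩ := exists_normalizer_map hS hF hR' hRR'
  obtain ⟨N', hN'⟩ := exists_normalizerSystem F hR'.1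
  haveI := finite_sub (normalizerIn_le (S := S) R')
  obtain ⟨hNc, hNsat, -⟩ := FusionLocal.isConstrained_normalizerSystem hS hF hR' hc' hN'
  obtain ⟨L', hL', ι', hmodel, -, hcent⟩ := FusionAlperin.Model.exists_model
    (hS.to_le (normalizerIn_le R')) hNsat (FusionLocal.isNormal_normalizerSystem hR'.1 hN') hNc
  haveI := hmodel.1
  intro hinv
  refine hfree R' hR' hRR' N' hN' L' ι' hmodel ?_
  -- the Sylow map
  let ψN : normalizerIn S R →* normalizerIn S R' := ψ.codRestrict _ hψv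
  let k : T →* L' := ι'.comp (ψN.comp (Subgroup.inclusion hTR))
  have hψRmem : ∀ x : normalizerIn S R, ψ x ∈ R' ↔ (x : Ω) ∈ R := by
    intro x
    constructor
    · intro hx
      obtain ⟨y, hy, hye⟩ := hψR.ge hx
      rw [← F.injective_of_mem hψ hye]; exact hy
    · intro hx; exact hψR.le ⟨x, hx, rfl⟩
  have hjT : ¬ p ∣ j.range.index := by
    obtain ⟨P, hP⟩ := hL.2.2.1
    rw [← hP]; exact P.not_dvd_index
  have hjn : ((R.subgroupOf T).map j).Normal := model_normal_core hL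
  have hcL' : ∀ g : L', (∀ r ∈ R.subgroupOf T, g * k r = k r * g) → ∃ r ∈ R.subgroupOf T, k r = g := by
    intro g hg
    obtain ⟨x, hx, rfl⟩ := hcent g fun x hx => by
      obtain ⟨y, hy, hye⟩ := hψR.ge hx
      have h1 := hg ⟨y, hRT hy⟩ hy
      rw [show x = ψN y from Subtype.ext hye.symm]
      exact h1
    obtain ⟨y, hy, hye⟩ := hψR.ge hx
    exact ⟨⟨y, hRT hy⟩, hy, congrArg ι' (Subtype.ext hye)⟩
  have hcompat : ∀ a : L, ∃ b : L', ∀ x y : T, a * j x * a⁻¹ = j y → b * k x * b⁻¹ = k y := by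
    intro a
    let D : Subgroup Ω := (j.range.comap ((MulAut.conj a).toMonoidHom.comp j)).map T.subtype
    have hDT : D ≤ T := Subgroup.map_subtype_le _
    have hD : ∀ x : D, a * j ⟨x, hDT x.2⟩ * a⁻¹ ∈ j.range := by
      rintro ⟨_, x, hx, rfl⟩; exact hx
    let e := MonoidHom.ofInjective hL.2.1.1
    let c : D →* j.range :=
      ((MulAut.conj a).toMonoidHom.comp (j.comp (Subgroup.inclusion hDT))).codRestrict _ hD
    let β : D →* Ω := T.subtype.comp (e.symm.toMonoidHom.comp c)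
    have hβj : ∀ (x : D) (hx : β x ∈ T), j ⟨β x, hx⟩ = a * j ⟨x, hDT x.2⟩ * a⁻¹ := fun x _ =>
      congrArg Subtype.val (e.apply_symm_apply (c x))
    have hβM : β ∈ M.Hom D := (hL.2.1.2 D hDT β fun x => SetLike.coe_mem _).2 ⟨a, fun x => hβj x _⟩
    have hRD : R ≤ D := by
      intro r hr
      obtain ⟨r', -, hr'⟩ := hjn.conj_mem _ ⟨⟨r, hRT hr⟩, hr, rfl⟩ a
      exact ⟨⟨r, hRT hr⟩, ⟨r', hr'⟩, rfl⟩
    -- transport along `ψ`
    obtain ⟨ψD, hψD, hψDe⟩ := exists_restrict hψ (hDT.trans hTR)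
    obtain ⟨θ, hθ, hθr, hθe⟩ : ∃ θ ∈ F.Hom ψD.range, (∀ y, θ y ∈ D) ∧
        ∀ (x : D) (hx : ψD x ∈ ψD.range), θ ⟨ψD x, hx⟩ = x := by
      obtain ⟨θ, hθ, hθr, hθe, -⟩ := exists_inv hψD rfl
      exact ⟨θ, hθ, fun y => hθr.le ⟨y, rfl⟩, fun x hx => hθe x hx⟩
    obtain ⟨χ, hχ, hχe⟩ := exists_comp hθ (hM _ hβM) hθr
    obtain ⟨γ, hγ, hγe⟩ := exists_comp hχ hψ fun y => hTR (by
      rw [hχe]; exact apply_mem hβM _)
    have hγv : ∀ y, γ y ∈ normalizerIn S R' := fun y => by rw [hγe]; exact hψv _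
    have hle : ψD.range ≤ normalizerIn S R' := by
      rintro _ ⟨x, rfl⟩; rw [hψDe]; exact hψv _
    have hγx : ∀ (x : D) (hx : ψD x ∈ ψD.range),
        γ ⟨ψD x, hx⟩ = ψ ⟨β x, hTR (apply_mem hβM x)⟩ := by
      intro x hx
      rw [hγe]
      exact congrArg ψ (Subtype.ext (by
        show χ ⟨ψD x, hx⟩ = β x
        rw [hχe]
        exact congrArg β (Subtype.ext (hθe x hx))))
    have hR'D : R' ≤ ψD.range := fun x hx => by
      obtain ⟨y, hy, rfl⟩ := hψR.ge hx
      exact ⟨⟨y, hRD hy⟩, by rw [hψDe]⟩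
    haveI := finite_sub hR'.1
    have hγN : γ ∈ N'.Hom ψD.range := by
      rw [hN' ψD.range]
      have hle' : ψD.range ⊔ R' ≤ ψD.range := sup_le le_rfl hR'D
      refine ⟨hγ, hle, hγv, γ.comp (Subgroup.inclusion hle'), mem_of_restrict hγ hle' fun _ => rfl,
        fun _ => rfl, map_subgroupOf_eq_of_mapsTo (F := F) (mem_of_restrict hγ hle' fun _ => rfl)
          le_sup_right fun z hz => ?_⟩
      obtain ⟨x, hx⟩ := hle' z.2
      have hxR : (x : Ω) ∈ R := (hψRmem ⟨x, hTR (hDT x.2)⟩).1 (by rw [← hψDe]; exact hx ▸ hz)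
      show γ (Subgroup.inclusion hle' z) ∈ R'
      rw [show Subgroup.inclusion hle' z = ⟨ψD x, x, rfl⟩ from Subtype.ext hx.symm]
      exact (hγx x _).symm ▸ (hψRmem _).2 (isNormal_apply_mem hRn hβM hxR)
    obtain ⟨b, hb⟩ := (hmodel.2.1.2 _ hle γ hγv).1 hγN
    refine ⟨b, fun x y hxy => ?_⟩
    have hxD : (x : Ω) ∈ D := ⟨x, ⟨y, hxy.symm⟩, rfl⟩
    have h1 := hb ⟨ψD ⟨x, hxD⟩, _, rfl⟩
    have h2 : β ⟨x, hxD⟩ = y := by
      have h3 := hL.2.1.1 ((hβj ⟨x, hxD⟩ (apply_mem hβM _)).trans hxy)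
      exact congrArg Subtype.val h3
    refine Eq.trans ?_ (Eq.trans h1.symm ?_)
    · exact congrArg (fun z => b * ι' z * b⁻¹) (Subtype.ext (hψDe ⟨x, hxD⟩).symm)
    · refine congrArg ι' (Subtype.ext ?_)
      exact (hγx _ _).trans (congrArg ψ (Subtype.ext h2))
  obtain ⟨f, hf⟩ := exists_hom j hL.2.1.1 k (hS.to_le hTS) hjT (R.subgroupOf T) hjn hcL' hcompat
  refine InvolvesS4.involves_of_injective f (injective_of_hom j k ?_ (R.subgroupOf T) hjn (fun g hg =>
    model_centralizer_core hL fun s hs => hg s hs) f hf) hinv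
  intro x y h
  have h1 : ψ (Subgroup.inclusion hTR x) = ψ (Subgroup.inclusion hTR y) :=
    congrArg Subtype.val (hmodel.2.1.1 h)
  exact Subgroup.inclusion_injective hTR (F.injective_of_mem hψ h1)

/-- If the model at `Q` has no larger normal `p`-subgroup, `Q` is radical. -/
theorem isRadical_of_core_eq (hS : IsPGroup p S) {Q : Subgroup Ω} (hQn : F.IsFullyNormalized Q)
    {N : FusionSystem (normalizerIn S Q)} (hN : F.IsNormalizerSystem Q N)
    {L : Type u} [Group L] {ι : ↥(normalizerIn S Q) →* L} (hL : N.IsModel p L ι) (hcore : N.core = Q) :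
    F.IsRadical p Q := by
  classical
  haveI := hL.1
  haveI := finite_sub hQn.1
  haveI := finite_sub (normalizerIn_le (S := S) Q)
  have hQT := le_normalizerIn (S := S) hQn.1
  haveI : Finite (MulAut Q) := Finite.of_injective (fun f : MulAut Q => (f : Q → Q)) DFunLike.coe_injective
  refine ⟨hQn.1, le_antisymm ?_ ?_⟩
  · -- the preimage in `L`
    set A := F.autGroup Q
    let act : L → MulAut Q → Prop := fun g α => ∀ x : Q, ι ⟨(α x : Q), hQT (α x).2⟩ = g * ι ⟨x, hQT x.2⟩ * g⁻¹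
    have hmul : ∀ {g h α β}, act g α → act h β → act (g * h) (α * β) := by
      intro g h α β ha hb x
      show ι ⟨(α (β x) : Q), _⟩ = _
      rw [ha (β x), hb x]; group
    have hinv : ∀ {g α}, act g α → act g⁻¹ α⁻¹ := by
      intro g α ha x
      have h1 := ha (α.symm x)
      have h2 : ∀ (z : Q) (e : α (α.symm x) = z), ι ⟨(z : Ω), hQT z.2⟩ = g * ι ⟨(α.symm x : Q), hQT (α.symm x).2⟩ * g⁻¹ := by
        rintro z rfl; exact h1
      have h3 := h2 x (α.apply_symm_apply x)
      show ι ⟨((α.symm x : Q) : Ω), _⟩ = _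
      rw [h3]; group
    have hone : act 1 1 := fun x => by
      rw [one_mul, inv_one, mul_one]; rfl
    have htot : ∀ g : L, ∃ α ∈ A, act g α := by
      intro g
      have hn : ((Q.subgroupOf (normalizerIn S Q)).map ι).Normal := by
        have := model_normal_core hL
        rwa [hcore] at this
      have hmem : ∀ x : Q, g * ι ⟨x, hQT x.2⟩ * g⁻¹ ∈ ι.range := fun x => by
        obtain ⟨y, -, hy⟩ := hn.conj_mem _ ⟨⟨x, hQT x.2⟩, x.2, rfl⟩ g
        exact ⟨y, hy⟩
      let e := MonoidHom.ofInjective hL.2.1.1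
      let c : Q →* ι.range :=
        ((MulAut.conj g).toMonoidHom.comp (ι.comp (Subgroup.inclusion hQT))).codRestrict _ hmem
      let φ : Q →* Ω := (normalizerIn S Q).subtype.comp (e.symm.toMonoidHom.comp c)
      have hφι : ∀ (x : Q) (hx : φ x ∈ normalizerIn S Q), ι ⟨φ x, hx⟩ = g * ι ⟨x, hQT x.2⟩ * g⁻¹ :=
        fun x _ => congrArg Subtype.val (e.apply_symm_apply (c x))
      have hφ : φ ∈ N.Hom Q := (hL.2.1.2 Q hQT φ fun x => SetLike.coe_mem _).2 ⟨g, fun x => hφι x _⟩
      have hφQ : ∀ x, φ x ∈ Q := fun x => by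
        have := isNormal_apply_mem (FusionLocal.isNormal_normalizerSystem hQn.1 hN) hφ x.2
        exact this
      rw [hN Q] at hφ
      have hr := range_eq_of_mem hφ.1 hφQ le_rfl
      exact ⟨homEquiv hφ.1 hr, homEquiv_mem_autGroup hφ.1 hr, fun x => hφι x (hQT (hφQ x))⟩
    have huniq : ∀ {g α β}, act g α → act g β → α = β := fun ha hb => MulEquiv.ext fun x =>
      Subtype.ext (congrArg (fun z : normalizerIn S Q => (z : Ω)) (hL.2.1.1 ((ha x).trans (hb x).symm)) :)
    set O := (pCore p A).map A.subtype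
    let P : Subgroup L :=
      { carrier := {g | ∃ α ∈ O, act g α}
        one_mem' := ⟨1, O.one_mem, hone⟩
        mul_mem' := fun ⟨α, hα, ha⟩ ⟨β, hβ, hb⟩ => ⟨α * β, O.mul_mem hα hβ, hmul ha hb⟩
        inv_mem' := fun ⟨α, hα, ha⟩ => ⟨α⁻¹, O.inv_mem hα, hinv ha⟩ }
    have hPn : P.Normal := by
      refine ⟨?_⟩
      rintro g ⟨α, ⟨a, ha, rfl⟩, hga⟩ h
      obtain ⟨β, hβ, hhb⟩ := htot h
      refine ⟨β * a * β⁻¹, ⟨⟨β, hβ⟩ * a * ⟨β, hβ⟩⁻¹, ?_, rfl⟩, hmul (hmul hhb hga) (hinv hhb)⟩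
      exact (inferInstance : (pCore p A).Normal).conj_mem a ha _
    have hcQ : ∀ g : L, act g 1 → g ∈ (Q.subgroupOf (normalizerIn S Q)).map ι := by
      intro g hg
      obtain ⟨s, hs, rfl⟩ := model_centralizer_core hL (g := g) fun s hs => by
        rw [hcore] at hs
        exact (mul_inv_eq_iff_eq_mul.1 (hg ⟨s, hs⟩).symm)
      rw [hcore] at hs
      exact ⟨s, hs, rfl⟩
    have hPp : IsPGroup p P := by
      rintro ⟨g, α, ⟨a, ha, rfl⟩, hga⟩
      obtain ⟨i, hi⟩ := Cores.pCore_isPGroup (G := A) p ⟨a, ha⟩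
      have hai : (a : MulAut Q) ^ p ^ i = 1 := by
        have := congrArg (fun z : pCore p A => ((z : A) : MulAut Q)) hi
        simpa using this
      have hgi : ∀ n : ℕ, act (g ^ n) ((a : MulAut Q) ^ n) := by
        intro n
        induction n with
        | zero => simpa using hone
        | succ n ih => rw [pow_succ, pow_succ]; exact hmul ih hga
      have h1 := hgi (p ^ i)
      rw [hai] at h1
      obtain ⟨s, -, hs⟩ := hcQ _ h1
      obtain ⟨m, hm⟩ := (hS.to_le (normalizerIn_le Q)) s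
      refine ⟨i + m, Subtype.ext ?_⟩
      show g ^ p ^ (i + m) = 1
      rw [pow_add, pow_mul, ← hs, ← map_pow, hm, map_one]
    haveI := hPn
    intro α hα
    have hαA : α ∈ A := by obtain ⟨a, -, rfl⟩ := hα; exact a.2
    obtain ⟨φ, hφ, hr, he⟩ := exists_hom_of_aut hQn.1 hαA
    have hmem : Q.subtype.comp α.toMonoidHom ∈ N.Hom Q := by
      rw [hN Q]; exact FusionLocal.aut_mem_normalizerHom hQn.1 hαA
    obtain ⟨g, hg⟩ := (hL.2.1.2 Q hQT _ fun x => hQT (α x).2).1 hmem
    have hga : act g α := fun x => hg x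
    have hgP : g ∈ pCore p L := Cores.le_pCore hPp ⟨α, hα, hga⟩
    rw [model_pCore_eq hL, hcore] at hgP
    obtain ⟨q, hq, rfl⟩ := hgP
    refine ⟨⟨q, hq⟩, huniq (fun x => ?_) hga⟩
    rw [← map_inv, ← map_mul, ← map_mul]
    rfl
  · have hle := inn_le_autGroup F hQn.1
    haveI : ((Inn Q).subgroupOf (F.autGroup Q)).Normal := inferInstance
    intro α hα
    exact ⟨⟨α, hle hα⟩, Cores.le_pCore
      ((((isPGroup_of_le hS hQn.1).of_surjective _ (MulAut.conj : Q →* MulAut Q).rangeRestrict_surjective)).of_equiv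
        (Subgroup.subgroupOfEquivOfLe hle).symm) (Subgroup.mem_subgroupOf.2 hα), rfl⟩

/-- Freeness at the centric radical subgroups suffices. -/
theorem free_of_centricRadical (hS : IsPGroup p S) (hF : F.IsSaturated p) {H : Type*} [Group H]
    (h : ∀ Q : Subgroup Ω, F.IsFullyNormalized Q → F.IsCentric Q → F.IsRadical p Q → FreeAt F p H Q) :
    F.IsSectionFree p H := by
  suffices key : ∀ (d : ℕ) (Q : Subgroup Ω), Nat.card S - Nat.card Q ≤ d → F.IsFullyNormalized Q →
      F.IsCentric Q → FreeAt F p H Q from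
    fun Q hQ hQc => key _ Q le_rfl hQ hQc
  intro d
  induction d using Nat.strong_induction_on with
  | _ d ih =>
    intro Q hd hQ hQc N hN L _ ι hL
    haveI := hL.1
    haveI := finite_sub (normalizerIn_le (S := S) Q)
    have hNn := FusionLocal.isNormal_normalizerSystem hQ.1 hN
    have hQR : Q ≤ N.core := le_core_of_isNormal hNn
    rcases eq_or_lt_of_le hQR with he | hlt
    · exact h Q hQ hQc (isRadical_of_core_eq hS hQ hN hL he.symm) N hN L ι hL
    have hRS : N.core ≤ S := (core_le_base N).trans (normalizerIn_le Q)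
    refine free_of_model hS hF (normalizerIn_le Q) (fun P φ hφ => ?_) hL (FS.isCentric_of_le hQc hQR hRS)
      fun R hR hconj => ?_
    · rw [hN P] at hφ; exact hφ.1
    · haveI := finite_sub hRS
      haveI := finite_sub (isConj_le_right hconj)
      have hcard : Nat.card Q < Nat.card N.core := lt_of_not_ge fun hh =>
        hlt.ne (Subgroup.eq_of_le_of_card_ge hQR hh)
      have hR2 : Nat.card R = Nat.card N.core := isConj_card hconj
      have hR3 : Nat.card R ≤ Nat.card S := Subgroup.card_le_of_le hR.1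
      exact ih (Nat.card S - Nat.card R) (by omega) R le_rfl hR
        (FusionLocal.isCentric_of_isConj hconj (FS.isCentric_of_le hQc hQR hRS))

/-- A centric subgroup of `N_F(Q)` containing `Q` is centric in `F`. -/
theorem isCentric_of_normalizer (hS : IsPGroup p S) (hF : F.IsSaturated p) {Q : Subgroup Ω}
    (hQ : F.IsFullyNormalized Q) {N : FusionSystem (normalizerIn S Q)} (hN : F.IsNormalizerSystem Q N)
    {R : Subgroup Ω} (hQR : Q ≤ R) (hR : N.IsCentric R) : F.IsCentric R := by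
  have hRS : R ≤ S := hR.1.trans (normalizerIn_le Q)
  refine ⟨hRS, ?_⟩
  rintro _ ⟨φ, hφ, rfl⟩ c hc
  obtain ⟨φQ, hφQ, heQ⟩ := exists_restrict hφ hQR
  obtain ⟨θ, hθ, hθr, hθr', -⟩ := exists_inv hφQ rfl
  haveI := finite_sub hQ.1
  obtain ⟨χ, hχ, hχe⟩ := (receptive_of_fullyNormalized hS hF hQ).2 φQ.range θ hθ hθr
  -- the range of `φ` lies in the extender
  have hD : φ.range ≤ extender S φQ.range θ := by
    rintro _ ⟨r, rfl⟩
    have hrQ : (r : Ω) ∈ Subgroup.normalizer (Q : Set Ω) := (hR.1 r.2).2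
    refine mem_extender_of (g := φ r) (h := (r : Ω)) ?_ (hRS r.2) fun x hx => ?_
    · haveI := finite_sub (range_le_base hφQ)
      refine ⟨apply_mem hφ r, mem_normalizer_of_conj_mem ?_⟩
      rintro _ ⟨q, rfl⟩
      refine ⟨⟨_, conj_mem_of_normalizer hrQ q.2⟩, ?_⟩
      rw [heQ, heQ, ← map_inv, ← map_mul, ← map_mul]
      rfl
    · obtain ⟨q, hq⟩ := x.2
      have hconj : (r : Ω) * q * (r : Ω)⁻¹ ∈ Q := conj_mem_of_normalizer hrQ q.2
      have h1 : φ r * (x : Ω) * (φ r)⁻¹ = φQ ⟨_, hconj⟩ := by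
        rw [← hq, heQ, heQ, ← map_inv, ← map_mul, ← map_mul]
        rfl
      rw [show (⟨φ r * (x : Ω) * (φ r)⁻¹, hx⟩ : φQ.range) = ⟨φQ ⟨_, hconj⟩, _, rfl⟩ from Subtype.ext h1,
        show x = ⟨φQ q, q, rfl⟩ from Subtype.ext hq.symm]
      exact (hθr' ⟨_, hconj⟩ _).trans (congrArg (fun z => (r : Ω) * z * (r : Ω)⁻¹) (hθr' q _).symm)
  have hQ'R : φQ.range ≤ φ.range := by
    rintro _ ⟨q, rfl⟩; rw [heQ]; exact ⟨_, rfl⟩
  have hcD : c ∈ extender S φQ.range θ :=
    centralizerIn_le_extender _ _ (centralizerIn_anti hQ'R hc)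
  obtain ⟨ρ, hρ, hρe⟩ := exists_comp hφ hχ fun r => hD ⟨r, rfl⟩
  have hρQ : ∀ (r : R) (hr : (r : Ω) ∈ Q), ρ r = r := by
    intro r hr
    have h1 : φ r = φQ ⟨r, hr⟩ := by rw [heQ]
    rw [hρe]
    exact (hχe (φ r) ⟨⟨r, hr⟩, h1.symm⟩ _).trans
      ((congrArg θ (Subtype.ext h1)).trans (hθr' ⟨r, hr⟩ ⟨_, rfl⟩))
  have hχT : ∀ y : extender S φQ.range θ, χ y ∈ normalizerIn S Q := fun y =>
    ⟨apply_mem hχ y, ext_apply_mem_normalizer (le_extender (range_le_base hφQ) (apply_mem hθ))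
      (fun x hP hR' => hχe x hP hR') hθr y (mem_extender.1 y.2).2.1⟩
  have hρN : ρ ∈ N.Hom R := by
    rw [hN R]
    have hle : R ⊔ Q ≤ R := sup_le le_rfl hQR
    refine ⟨hρ, hR.1, fun r => by rw [hρe]; exact hχT _, ρ.comp (Subgroup.inclusion hle),
      mem_of_restrict hρ hle fun _ => rfl, fun _ => rfl,
      map_subgroupOf_eq_of_mapsTo (F := F) (mem_of_restrict hρ hle fun _ => rfl) le_sup_right
        fun z hz => ?_⟩
    show ρ (Subgroup.inclusion hle z) ∈ Q
    rw [hρQ _ hz]; exact hz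
  have h1 : χ ⟨c, hcD⟩ ∈ centralizerIn (normalizerIn S Q) ρ.range := by
    refine mem_centralizerIn.2 ⟨hχT _, ?_⟩
    rintro _ ⟨r, rfl⟩
    rw [hρe, ← map_mul, ← map_mul]
    exact congrArg χ (Subtype.ext ((mem_centralizerIn.1 hc).2 _ ⟨r, rfl⟩))
  obtain ⟨r, hr⟩ := hR.2 ρ.range ⟨ρ, hρN, rfl⟩ h1
  rw [hρe] at hr
  exact ⟨r, congrArg Subtype.val (F.injective_of_mem hχ hr)⟩

/-- Section-freeness passes to normalizer systems. -/
theorem normalizer_free (hS : IsPGroup p S) (hF : F.IsSaturated p) {H : Type*} [Group H]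
    (hfree : F.IsSectionFree p H) {Q : Subgroup Ω} (hQ : F.IsFullyNormalized Q)
    {N : FusionSystem (normalizerIn S Q)} (hN : F.IsNormalizerSystem Q N) : N.IsSectionFree p H := by
  haveI := finite_sub (normalizerIn_le (S := S) Q)
  refine free_of_centricRadical (hS.to_le (normalizerIn_le Q)) (normalizerSystem_isSaturated hS hF hQ hN)
    fun R hR hRc hRr M hM L _ ι hL => ?_
  have hNn := FusionLocal.isNormal_normalizerSystem hQ.1 hN
  have hQR : Q ≤ R := isNormal_le_centricRadical (hS.to_le (normalizerIn_le Q)) hNn hRc hRr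
  have hRF := isCentric_of_normalizer hS hF hQ hN hQR hRc
  have hMn := FusionLocal.isNormal_normalizerSystem hR.1 hM
  have hTS : normalizerIn (normalizerIn S Q) R ≤ S := (normalizerIn_le R).trans (normalizerIn_le Q)
  refine free_of_model hS hF hTS (fun P φ hφ => ?_) hL
    (FS.isCentric_of_le hRF (le_core_of_isNormal hMn) ((core_le_base M).trans hTS))
    fun R' hR' hconj => hfree R' hR' (FusionLocal.isCentric_of_isConj hconj
      (FS.isCentric_of_le hRF (le_core_of_isNormal hMn) ((core_le_base M).trans hTS)))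
  rw [hM P] at hφ
  have h2 := hφ.1
  rw [hN P] at h2
  exact h2.1

end Cfsg.Agent.Lib.FusionP3.Free
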