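import Mathlib
import Cfsg.Agent.Lib.FusionP3.Free.Main
import Cfsg.Agent.Lib.FusionSystem.FactorSaturated
import Cfsg.Agent.Lib.FusionSystem.Agree

/-!
Section-freeness passes to factor systems by normal subgroups.
-/

set_option autoImplicit false
set_option linter.style.haveILetI false
set_option linter.unusedSectionVars false

namespace Cfsg.Agent.Lib.FusionP3.Free

open Cfsg Cfsg.FusionSystem Cfsg.Agent.Lib.FS
open Cfsg.Agent.Lib.Transfer

universe u v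

section Model

variable {Ω : Type*} [Group Ω] {T : Subgroup Ω} {p : ℕ} [Fact p.Prime] {M : FusionSystem T}
  {L : Type*} [Group L] {j : T →* L}

theorem exists_conj_hom (hj : M.IsRealizedBy j) {D : Subgroup Ω} (hD : D ≤ T) (g : L)
    (h : ∀ x : D, g * j ⟨x, hD x.2⟩ * g⁻¹ ∈ j.range) :
    ∃ φ ∈ M.Hom D, ∀ (x : D) (hx : φ x ∈ T), j ⟨φ x, hx⟩ = g * j ⟨x, hD x.2⟩ * g⁻¹ := by
  let e := MonoidHom.ofInjective hj.1
  let c : D →* j.range :=
    ((MulAut.conj g).toMonoidHom.comp (j.comp (Subgroup.inclusion hD))).codRestrict _ h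
  let φ : D →* Ω := T.subtype.comp (e.symm.toMonoidHom.comp c)
  have he : ∀ (x : D) (hx : φ x ∈ T), j ⟨φ x, hx⟩ = g * j ⟨x, hD x.2⟩ * g⁻¹ := fun x _ =>
    congrArg Subtype.val (e.apply_symm_apply (c x))
  exact ⟨φ, (hj.2 D hD φ fun x => SetLike.coe_mem _).2 ⟨g, fun x => he x _⟩, he⟩

variable [Finite T]

theorem model_map_normal (hL : M.IsModel p L j) {R : Subgroup Ω} (hR : M.IsNormal R) :
    ((R.subgroupOf T).map j).Normal := by
  haveI := hL.1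
  refine ⟨?_⟩
  rintro _ ⟨r, hr, rfl⟩ g
  have hn := model_normal_core hL
  have hle : R ≤ M.core := le_core_of_isNormal hR
  obtain ⟨φ, hφ, he⟩ := exists_conj_hom hL.2.1 hR.1 g fun x => by
    obtain ⟨y, -, hy⟩ := hn.conj_mem _ ⟨⟨x, hR.1 x.2⟩, hle x.2, rfl⟩ g
    exact ⟨y, hy⟩
  exact ⟨⟨φ ⟨r, hr⟩, apply_mem hφ _⟩, isNormal_apply_mem hR hφ hr, he ⟨r, hr⟩ _⟩

theorem model_centralizer_of_centric (hT : IsPGroup p T) (hL : M.IsModel p L j) {R : Subgroup Ω}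
    (hRn : M.IsNormal R) (hRc : M.IsCentric R) {g : L}
    (hg : ∀ r : T, (r : Ω) ∈ R → g * j r = j r * g) : ∃ r : T, (r : Ω) ∈ R ∧ j r = g := by
  haveI := hL.1
  obtain ⟨-, hreal, ⟨P, hP⟩, -⟩ := id hL
  have hsat := isSaturated_of_realized hreal P hP
  have hn := model_normal_core hL
  have hcT : M.core ≤ T := core_le_base M
  have hle : R ≤ M.core := le_core_of_isNormal hRn
  obtain ⟨φ, hφ, he⟩ := exists_conj_hom hreal hcT g fun x => by
    obtain ⟨y, -, hy⟩ := hn.conj_mem _ ⟨⟨x, hcT x.2⟩, x.2, rfl⟩ g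
    exact ⟨y, hy⟩
  obtain ⟨z, hzR, -, hz⟩ := exists_conj_of_agree_le hT hsat hle hRc (subtype_mem M hcT) hφ fun x hx => by
    refine congrArg Subtype.val (hreal.1 ?_ : (⟨(x : Ω), hcT x.2⟩ : T) = ⟨φ x, apply_mem hφ x⟩)
    rw [he, hg _ hx, mul_inv_cancel_right]
  set zT : T := ⟨z, hcT z.2⟩
  obtain ⟨s, hs, hse⟩ := model_centralizer_core hL (g := (j zT)⁻¹ * g) fun y hy => by
    have h1 := he ⟨y, hy⟩ (apply_mem hφ _)
    have h2 : (⟨φ ⟨y, hy⟩, apply_mem hφ _⟩ : T) = zT * y * zT⁻¹ := Subtype.ext (hz ⟨y, hy⟩)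
    rw [h2, map_mul, map_mul, map_inv] at h1
    calc (j zT)⁻¹ * g * j y = (j zT)⁻¹ * (g * j y * g⁻¹) * g := by group
      _ = (j zT)⁻¹ * (j zT * j y * (j zT)⁻¹) * g := by rw [h1]
      _ = _ := by group
  have hsR : (s : Ω) ∈ R := by
    refine hRc.2 R (isConj_refl M (hle.trans hcT)) (mem_centralizerIn.2 ⟨s.2, fun y hy => ?_⟩)
    have h1 : g * j ⟨y, hcT (hle hy)⟩ = j ⟨y, hcT (hle hy)⟩ * g := hg _ hy
    have h3 : j zT * j ⟨y, hcT (hle hy)⟩ = j ⟨y, hcT (hle hy)⟩ * j zT := by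
      have h4 := hz ⟨y, hle hy⟩
      have h5 : (⟨φ ⟨y, hle hy⟩, apply_mem hφ _⟩ : T) = ⟨y, hcT (hle hy)⟩ := by
        refine hreal.1 ((he _ _).trans ?_)
        rw [h1, mul_inv_cancel_right]
      have h6 : zT * ⟨y, hcT (hle hy)⟩ * zT⁻¹ = (⟨y, hcT (hle hy)⟩ : T) := by
        refine Eq.trans ?_ h5; exact Subtype.ext h4.symm
      rw [← map_mul, ← map_mul]
      exact congrArg j (mul_inv_eq_iff_eq_mul.1 h6)
    have h7 : Commute (j s) (j ⟨y, hcT (hle hy)⟩) := by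
      rw [hse]
      exact (Commute.inv_left h3).mul_left h1
    exact (congrArg Subtype.val (hreal.1 (by rw [map_mul, map_mul]; exact h7.eq) :
      s * ⟨y, hcT (hle hy)⟩ = ⟨y, hcT (hle hy)⟩ * s)).symm
  refine ⟨zT * s, R.mul_mem hzR hsR, ?_⟩
  rw [map_mul, hse, mul_inv_cancel_left]

end Model

variable {Ω : Type u} [Group Ω] {S : Subgroup Ω} [Finite S] {p : ℕ} [Fact p.Prime] {F : FusionSystem S}

/-- Freeness passes to factor systems. -/
theorem factor_free (hS : IsPGroup p S) (hF : F.IsSaturated p) {H : Type*} [Group H]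
    (hfree : F.IsSectionFree p H) {Q : Subgroup Ω} (hQ : F.IsNormal Q) {Ω' : Type v} [Group Ω']
    {S' : Subgroup Ω'} {θ : S →* Ω'} {E : FusionSystem S'} (hE : F.IsFactorSystem Q θ E) :
    E.IsSectionFree p H := by
  classical
  intro P' hP' hPc' N' hN' L' _ ι' hL'
  obtain ⟨hQS, hker, hr, hmem⟩ := id hE
  have hQc := isNormal_stronglyClosed hQ
  have hK : F.StronglyClosed (θ.ker.map S.subtype) := by rw [ker_map_eq hQS hker]; exact hQc
  haveI : Finite S' := finite_image hr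
  have hS' : IsPGroup p S' := isPGroup_image hS hr
  haveI := finite_sub hP'.1
  haveI := hL'.1
  haveI := finite_sub (normalizerIn_le (S := S') P')
  set R := preimageAlong θ P' with hR
  have hRS : R ≤ S := preimageAlong_le θ P'
  haveI := finite_sub hRS
  have hQR : Q ≤ R := by rw [← ker_map_eq hQS hker]; exact ker_map_le_preimageAlong θ P'
  have hRfn : F.IsFullyNormalized R := factor_fullyNormalized_lift hQc hE hP'
  have hRc : F.IsCentric R := by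
    refine ⟨hRS, ?_⟩
    rintro _ ⟨φ, hφ, rfl⟩ c hc
    obtain ⟨φ', hφ'⟩ := exists_induced hK hr hP'.1 hφ
    have hm : φ' ∈ E.Hom P' := (hmem _ _).2 ⟨hP'.1, φ, hφ, hφ'⟩
    rw [range_eq_preimage hK hr hP'.1 hφ hφ']
    refine mem_preimageAlong.2 ⟨hc.1, hPc'.2 φ'.range ⟨φ', hm, rfl⟩
      (mem_centralizerIn.2 ⟨hr.le ⟨_, rfl⟩, ?_⟩)⟩
    rintro _ ⟨w, rfl⟩
    obtain ⟨s, hs⟩ := hr.ge (hP'.1 w.2)
    have hsP : θ s ∈ P' := hs ▸ w.2
    have h1 := inducedAlong_apply hφ' ⟨s, mem_preimageAlong.2 ⟨s.2, hsP⟩⟩ s.2 hsP (apply_mem hφ _)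
    rw [show w = ⟨θ s, hsP⟩ from Subtype.ext hs.symm, h1, ← map_mul, ← map_mul]
    exact congrArg θ (Subtype.ext ((mem_centralizerIn.1 hc).2 _ ⟨_, rfl⟩))
  obtain ⟨N, hN⟩ := exists_normalizerSystem F hRfn.1
  haveI := finite_sub (normalizerIn_le (S := S) R)
  have hT : IsPGroup p (normalizerIn S R) := hS.to_le (normalizerIn_le R)
  obtain ⟨hNc, hNsat, -⟩ := FusionLocal.isConstrained_normalizerSystem hS hF hRfn hRc hN
  have hNn := FusionLocal.isNormal_normalizerSystem hRfn.1 hN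
  obtain ⟨L, hL0, ι, hL, -, -⟩ := FusionAlperin.Model.exists_model hT hNsat hNn hNc
  haveI := hL.1
  intro hinv
  refine hfree R hRfn hRc N hN L ι hL ?_
  have hN'n := FusionLocal.isNormal_normalizerSystem hP'.1 hN'
  have hN'c : N'.IsCentric P' := by
    refine ⟨le_normalizerIn hP'.1, ?_⟩
    rintro _ ⟨φ, hφ, rfl⟩
    rw [hN' P'] at hφ
    exact fun x hx => hPc'.2 φ.range ⟨φ, hφ.1, rfl⟩ ⟨hx.1.1, hx.2⟩
  -- the map on the Sylow subgroup
  let θN : normalizerIn S R →* normalizerIn S' P' :=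
    (θ.comp (Subgroup.inclusion (normalizerIn_le R))).codRestrict _
      fun x => (mem_normalizerIn_preimage hr hP'.1 _).2 x.2
  let k : normalizerIn S R →* L' := ι'.comp θN
  have hmemR : ∀ x : normalizerIn S R, (x : Ω) ∈ R ↔ (θN x : Ω') ∈ P' := fun x =>
    ⟨fun hx => (mem_preimageAlong.1 hx).2, fun hx => mem_preimageAlong.2 ⟨(normalizerIn_le R) x.2, hx⟩⟩
  have hidx : ¬ p ∣ ι.range.index := by
    obtain ⟨P, hP⟩ := hL.2.2.1
    rw [← hP]; exact P.not_dvd_index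
  have hn : ((R.subgroupOf (normalizerIn S R)).map ι).Normal := model_map_normal hL hNn
  have hc : ∀ g : L', (∀ r ∈ R.subgroupOf (normalizerIn S R), g * k r = k r * g) →
      ∃ r ∈ R.subgroupOf (normalizerIn S R), k r = g := by
    intro g hg
    have hlift : ∀ x : normalizerIn S' P', (x : Ω') ∈ P' →
        ∃ r : normalizerIn S R, (r : Ω) ∈ R ∧ θN r = x := by
      intro x hx
      obtain ⟨s, hs⟩ := hr.ge x.2.1
      have hsR : (s : Ω) ∈ R := mem_preimageAlong.2 ⟨s.2, by rw [show (⟨(s : Ω), s.2⟩ : S) = s from rfl, hs]; exact hx⟩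
      exact ⟨⟨s, le_normalizerIn hRS hsR⟩, hsR, Subtype.ext hs⟩
    obtain ⟨x, hx, rfl⟩ := model_centralizer_of_centric (hS'.to_le (normalizerIn_le P')) hL' hN'n hN'c
      (g := g) fun x hx => by
        obtain ⟨r, hr', rfl⟩ := hlift x hx
        exact hg r hr'
    obtain ⟨r, hr', rfl⟩ := hlift x hx
    exact ⟨r, hr', rfl⟩
  have hcompat : ∀ a : L, ∃ b : L', ∀ x y : normalizerIn S R,
      a * ι x * a⁻¹ = ι y → b * k x * b⁻¹ = k y := by
    intro a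
    let D : Subgroup Ω := (ι.range.comap ((MulAut.conj a).toMonoidHom.comp ι)).map (normalizerIn S R).subtype
    have hDT : D ≤ normalizerIn S R := Subgroup.map_subtype_le _
    obtain ⟨β, hβ, hβe⟩ := exists_conj_hom hL.2.1 hDT a (by rintro ⟨_, x, hx, rfl⟩; exact hx)
    have hRD : R ≤ D := by
      intro r hr'
      obtain ⟨r', -, hre⟩ := hn.conj_mem _ ⟨⟨r, le_normalizerIn hRS hr'⟩, hr', rfl⟩ a
      exact ⟨⟨r, le_normalizerIn hRS hr'⟩, ⟨r', hre⟩, rfl⟩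
    have hDS : D ≤ S := hDT.trans (normalizerIn_le R)
    set D' := imageAlong θ D
    have hD'S : D' ≤ S' := by rintro _ ⟨s, -, rfl⟩; exact hr.le ⟨s, rfl⟩
    have hpre : preimageAlong θ D' ≤ D := by
      intro x hx
      obtain ⟨hxS, d, hd, hde⟩ := mem_preimageAlong.1 hx
      have h1 : x * (d : Ω)⁻¹ ∈ Q := by
        rw [← ker_map_eq hQS hker]
        exact ⟨⟨x, hxS⟩ * d⁻¹, by show θ _ = 1; rw [map_mul, map_inv, hde, mul_inv_cancel], rfl⟩
      simpa using D.mul_mem (hRD (hQR h1)) hd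
    have hβF : β ∈ F.Hom D := by rw [hN D] at hβ; exact hβ.1
    have hψ := restrict_mem hβF hpre
    obtain ⟨φ', hφ'⟩ := exists_induced hK hr hD'S hψ
    have hφE : φ' ∈ E.Hom D' := (hmem _ _).2 ⟨hD'S, _, hψ, hφ'⟩
    have himg : ∀ x : D, θ ⟨x, hDS x.2⟩ ∈ D' := fun x => ⟨⟨x, hDS x.2⟩, x.2, rfl⟩
    have hval : ∀ x : D, φ' ⟨θ ⟨x, hDS x.2⟩, himg x⟩ = θ ⟨β x, apply_mem hβF x⟩ := fun x =>
      inducedAlong_apply hφ' ⟨x, mem_preimageAlong.2 ⟨hDS x.2, himg x⟩⟩ (hDS x.2) (himg x) _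
    have hrep : ∀ w : D', ∃ x : D, w = ⟨θ ⟨x, hDS x.2⟩, himg x⟩ := fun w => by
      obtain ⟨s, hs, hse⟩ := w.2
      exact ⟨⟨s, hs⟩, Subtype.ext hse.symm⟩
    have hD'T : D' ≤ normalizerIn S' P' := by
      intro w hw
      obtain ⟨x, hx⟩ := hrep ⟨w, hw⟩
      rw [show w = θ ⟨x, hDS x.2⟩ from congrArg Subtype.val hx]
      exact (mem_normalizerIn_preimage hr hP'.1 _).2 (hDT x.2)
    have hP'D : P' ≤ D' := fun w hw => by
      obtain ⟨s, rfl⟩ := hr.ge (hP'.1 hw)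
      exact ⟨s, hRD (mem_preimageAlong.2 ⟨s.2, hw⟩), rfl⟩
    have hv : ∀ w, φ' w ∈ normalizerIn S' P' := fun w => by
      obtain ⟨x, rfl⟩ := hrep w
      rw [hval]
      exact (mem_normalizerIn_preimage hr hP'.1 _).2 (apply_mem hβ x)
    have hφN : φ' ∈ N'.Hom D' := by
      rw [hN' D']
      have hle : D' ⊔ P' ≤ D' := sup_le le_rfl hP'D
      refine ⟨hφE, hD'T, hv, φ'.comp (Subgroup.inclusion hle), mem_of_restrict hφE hle fun _ => rfl,
        fun _ => rfl, map_subgroupOf_eq_of_mapsTo (F := E) (mem_of_restrict hφE hle fun _ => rfl)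
          le_sup_right fun z hz => ?_⟩
      obtain ⟨x, hx⟩ := hrep (Subgroup.inclusion hle z)
      show φ' (Subgroup.inclusion hle z) ∈ P'
      rw [hx, hval]
      have hxR : (x : Ω) ∈ R := mem_preimageAlong.2 ⟨hDS x.2,
        (show (z : Ω') = θ ⟨x, hDS x.2⟩ from congrArg Subtype.val hx) ▸ hz⟩
      exact (mem_preimageAlong.1 (isNormal_apply_mem hNn hβ hxR)).2
    obtain ⟨b, hb⟩ := (hL'.2.1.2 D' hD'T φ' hv).1 hφN
    refine ⟨b, fun x y hxy => ?_⟩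
    have hxD : (x : Ω) ∈ D := ⟨x, ⟨y, hxy.symm⟩, rfl⟩
    have h1 := hb ⟨θ ⟨x, hDS hxD⟩, himg ⟨x, hxD⟩⟩
    have h2 : β ⟨x, hxD⟩ = y :=
      congrArg Subtype.val (hL.2.1.1 ((hβe ⟨x, hxD⟩ (apply_mem hβ _)).trans hxy))
    exact h1.symm.trans (congrArg ι' (Subtype.ext
      ((hval ⟨x, hxD⟩).trans (congrArg θ (Subtype.ext h2)))))
  obtain ⟨f, hf⟩ := exists_hom ι hL.2.1.1 k hT hidx (R.subgroupOf _) hn hc hcompat
  refine InvolvesS4.involves_of_surjective f (surjective_of_hom ι k (R.subgroupOf _) hc (fun b => ?_) f hf)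
    hinv
  have hn' : ((P'.subgroupOf (normalizerIn S' P')).map ι').Normal := model_map_normal hL' hN'n
  obtain ⟨φ', hφ', hφe⟩ := exists_conj_hom hL'.2.1 (le_normalizerIn hP'.1) b fun x => by
    obtain ⟨y, -, hy⟩ := hn'.conj_mem _ ⟨⟨x, le_normalizerIn hP'.1 x.2⟩, x.2, rfl⟩ b
    exact ⟨y, hy⟩
  have hφE : φ' ∈ E.Hom P' := by rw [hN' P'] at hφ'; exact hφ'.1
  obtain ⟨-, φ, hφ, hind⟩ := (hmem _ _).1 hφE
  have hφR : ∀ x, φ x ∈ R := fun x => by
    obtain ⟨hxS, hxP⟩ := mem_preimageAlong.1 x.2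
    refine mem_preimageAlong.2 ⟨apply_mem hφ x, ?_⟩
    rw [← inducedAlong_apply hind x hxS hxP]
    exact isNormal_apply_mem hN'n hφ' (x := ⟨_, hxP⟩) hxP
  have hrange := range_eq_of_mem hφ hφR le_rfl
  have hφN : R.subtype.comp (homEquiv hφ hrange).toMonoidHom ∈ N.Hom R := by
    rw [hN R]; exact FusionLocal.aut_mem_normalizerHom hRfn.1 (homEquiv_mem_autGroup hφ hrange)
  obtain ⟨a, ha⟩ := (hL.2.1.2 R (le_normalizerIn hRS) _
    fun x => le_normalizerIn hRS ((homEquiv hφ hrange) x).2).1 hφN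
  refine ⟨a, fun x hx => ⟨⟨φ ⟨x, hx⟩, le_normalizerIn hRS (hφR _)⟩, hφR _, (ha ⟨x, hx⟩).symm, ?_⟩⟩
  obtain ⟨hxS, hxP⟩ := mem_preimageAlong.1 (hx : (x : Ω) ∈ R)
  refine ((hφe ⟨θ ⟨x, hxS⟩, hxP⟩ (apply_mem hφ' _)).symm.trans ?_)
  exact congrArg ι' (Subtype.ext (inducedAlong_apply hind ⟨x, hx⟩ hxS hxP (apply_mem hφ _)))

end Cfsg.Agent.Lib.FusionP3.Free
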